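import Cfsg.Agent.Lib.JankoOne.Order.Pairs
import Cfsg.Agent.Lib.Recog.OrderSixty
import Cfsg.Agent.S0215
import Mathlib.GroupTheory.Transfer
import Mathlib.GroupTheory.SpecificGroups.Alternating.Centralizer
import Mathlib.GroupTheory.SpecificGroups.Cyclic

/-!
A group of order 120 with a central involution, six Sylow 5-subgroups and abelian Sylow 2-subgroups is
`Z₂ × A₅`; in a simple group an involution centraliser of this order has abelian Sylow 2-subgroups.
-/

set_option autoImplicit false
set_option linter.style.haveILetI false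

namespace Cfsg.Agent.JankoOne.Order

open scoped IsMulCommutative

variable {C : Type*} [Group C] [Finite C]

theorem exists_map_A5 (hC : Nat.card C = 120) {t : C} (ht : orderOf t = 2) (hz : ∀ c : C, c * t = t * c)
    (h6 : Nat.card (Sylow 5 C) = 6) :
    ∃ π : C →* alternatingGroup (Fin 5), Function.Surjective π ∧ π.ker = Subgroup.zpowers t := by
  haveI : Fact (Nat.Prime 5) := ⟨by norm_num⟩
  set Z := Subgroup.zpowers t with hZ
  haveI : Z.Normal := ⟨fun x hx g => by
    obtain ⟨k, rfl⟩ := hx
    refine ⟨k, ?_⟩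
    show t ^ k = _
    rw [((show Commute g t from hz g).zpow_right k).eq, mul_inv_cancel_right]⟩
  have hZc : Nat.card Z = 2 := by rw [hZ, Nat.card_zpowers, ht]
  have hQ : Nat.card (C ⧸ Z) = 60 := by
    have := Subgroup.card_eq_card_quotient_mul_card_subgroup Z
    rw [hC, hZc] at this
    omega
  have hC5 : ∀ P : Sylow 5 C, Nat.card (P : Subgroup C) = 5 :=
    J1Order.card_sylow_prime (by rw [hC]; norm_num) (by rw [hC]; norm_num)
  have hQ6 : Nat.card (Sylow 5 (C ⧸ Z)) = 6 := by
    refine (OrderSixty.sylow_card_cases hQ).resolve_left fun h1 => ?_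
    haveI : Subsingleton (Sylow 5 (C ⧸ Z)) := (Nat.card_eq_one_iff_unique.1 h1).1
    obtain ⟨R⟩ : Nonempty (Sylow 5 (C ⧸ Z)) := inferInstance
    set M := (R : Subgroup (C ⧸ Z)).comap (QuotientGroup.mk' Z) with hM
    have hMc : Nat.card M = 5 * 2 := by
      have h := M.card_mul_index
      rw [hM, Subgroup.index_comap_of_surjective _ (QuotientGroup.mk'_surjective Z), hC] at h
      have h' := (R : Subgroup (C ⧸ Z)).card_mul_index
      rw [OrderSixty.card_sylow_five hQ R, hQ] at h'
      rw [show ((R : Subgroup (C ⧸ Z))).index = 12 by omega, ← hM] at h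
      omega
    have hle : ∀ P : Sylow 5 C, (P : Subgroup C) ≤ M := fun P => by
      obtain ⟨R', hR'⟩ := (P.isPGroup'.map (QuotientGroup.mk' Z)).exists_le_sylow
      rw [Subsingleton.elim R' R] at hR'
      exact Subgroup.map_le_iff_le_comap.1 hR'
    have hsub : Subsingleton (Sylow 5 C) := ⟨fun P P' => OrderSixty.unique_in M 2 hMc (by norm_num) (by norm_num)
      P P' (hC5 P) (hC5 P') (hle P) (hle P')⟩
    have := Finite.card_le_one_iff_subsingleton.2 hsub
    omega
  obtain ⟨e⟩ := OrderSixty.equiv_A5 hQ hQ6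
  refine ⟨e.toMonoidHom.comp (QuotientGroup.mk' Z), e.surjective.comp (QuotientGroup.mk'_surjective Z), ?_⟩
  ext x
  simp [MonoidHom.mem_ker, QuotientGroup.eq_one_iff]

theorem equiv_model (hC : Nat.card C = 120) {t : C} (ht : orderOf t = 2) (hz : ∀ c : C, c * t = t * c)
    (π : C →* alternatingGroup (Fin 5)) (hπ : Function.Surjective π) (hk : π.ker = Subgroup.zpowers t)
    (S : Sylow 2 C) (hS : IsMulCommutative (S : Subgroup C)) :
    Nonempty (C ≃* Multiplicative (ZMod 2) × alternatingGroup (Fin 5)) := by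
  haveI : Fact (Nat.Prime 2) := ⟨Nat.prime_two⟩
  have hS8 : Nat.card (S : Subgroup C) = 8 := by
    rw [Small.sylow_card (k := 3) (m := 15) (by rw [hC]; norm_num) (by norm_num) S]; norm_num
  have hidx : (S : Subgroup C).index = 15 :=
    Small.sylow_index (k := 3) (m := 15) (by rw [hC]; norm_num) (by norm_num) S
  have hZp : IsPGroup 2 (Subgroup.zpowers t) := IsPGroup.of_card (n := 1) (by rw [Nat.card_zpowers, ht, pow_one])
  have htS : t ∈ (S : Subgroup C) := by
    obtain ⟨S', hS'⟩ := hZp.exists_le_sylow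
    obtain ⟨g, hg⟩ := MulAction.exists_smul_eq C S' S
    rw [← hg, Sylow.coe_subgroup_smul, Subgroup.mem_pointwise_smul_iff_inv_smul_mem]
    rw [show (MulAut.conj g)⁻¹ • t = t by
      show g⁻¹ * t * g = t
      rw [mul_assoc, ← hz g, inv_mul_cancel_left]]
    exact hS' (Subgroup.mem_zpowers t)
  have hD : t ∉ commutator C := by
    intro hmem
    let T : C →* (S : Subgroup C) := MonoidHom.transfer (MonoidHom.id (S : Subgroup C))
    have h1 : T t = 1 := Abelianization.commutator_subset_ker T hmem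
    have key : ∀ (k : ℕ) (g₀ : C), g₀⁻¹ * t ^ k * g₀ ∈ (S : Subgroup C) → g₀⁻¹ * t ^ k * g₀ = t ^ k :=
      fun k g₀ _ => by
        rw [mul_assoc, ← ((show Commute g₀ t from hz g₀).pow_right k).eq, inv_mul_cancel_left]
    rw [show T t = _ from MonoidHom.transfer_eq_pow (MonoidHom.id (S : Subgroup C)) t key] at h1
    have h2 : t ^ 15 = 1 := by
      have := congrArg Subtype.val h1
      rw [← hidx]; exact this
    have := orderOf_dvd_of_pow_eq_one h2
    rw [ht] at this
    norm_num at this
  set D := commutator C with hDdef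
  have hinj : ∀ x ∈ D, π x = 1 → x = 1 := fun x hx h => by
    have hxk : x ∈ Subgroup.zpowers t := hk ▸ MonoidHom.mem_ker.2 h
    by_contra hne
    exact hD (Subgroup.zpowers_le.1 ((J1Order.zpowers_eq_of_mem Nat.prime_two
      (by rw [Nat.card_zpowers, ht]) hxk hne).ge.trans (Subgroup.zpowers_le.2 hx)))
  have hmap : D.map π = ⊤ := by
    rw [hDdef, commutator_def, Subgroup.map_commutator, Subgroup.map_top_of_surjective π hπ, ← commutator_def]
    exact commutator_alternatingGroup_eq_top (by simp)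
  have hDc : Nat.card D = 60 := by
    have h1 : Nat.card D = Nat.card (D.map π) :=
      Nat.card_congr (Equiv.ofBijective (fun x : D => (⟨π x.1, x.1, x.2, rfl⟩ : D.map π))
        ⟨fun x y h => Subtype.ext (by
          have h' : π x.1 = π y.1 := congrArg Subtype.val h
          exact inv_mul_eq_one.1 (hinj _ (mul_mem (inv_mem x.2) y.2) (by rw [map_mul, map_inv, h', inv_mul_cancel]))),
         fun y => by
          obtain ⟨x, hx, hxy⟩ := y.2
          exact ⟨⟨x, hx⟩, Subtype.ext hxy⟩⟩)
    rw [h1, hmap, Subgroup.card_top, Nat.card_eq_fintype_card]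
    decide +kernel
  have hq : Nat.card (C ⧸ D) = 2 := by
    have := Subgroup.card_eq_card_quotient_mul_card_subgroup D
    rw [hC, hDc] at this
    omega
  haveI : IsCyclic (C ⧸ D) := isCyclic_of_prime_card hq
  let e₂ : C ⧸ D ≃* Multiplicative (ZMod 2) := mulEquivOfCyclicCardEq (by rw [hq]; simp)
  let f : C →* Multiplicative (ZMod 2) × alternatingGroup (Fin 5) :=
    (e₂.toMonoidHom.comp (QuotientGroup.mk' D)).prod π
  refine ⟨MulEquiv.ofBijective f ((Nat.bijective_iff_injective_and_card _).2 ⟨?_, ?_⟩)⟩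
  · rw [← MonoidHom.ker_eq_bot_iff, eq_bot_iff]
    intro x hx
    obtain ⟨h1, h2⟩ := Prod.ext_iff.1 (MonoidHom.mem_ker.1 hx)
    have hxD : x ∈ D := (QuotientGroup.eq_one_iff x).1 (e₂.injective (h1.trans (map_one e₂).symm))
    exact Subgroup.mem_bot.2 (hinj x hxD h2)
  · rw [hC, Nat.card_eq_fintype_card]
    decide +kernel

/-- An involution centraliser of order 120 in a simple group. -/
theorem centraliser_equiv {G : Type*} [Group G] [Finite G] [IsSimpleGroup G] {t : G} (ht : orderOf t = 2)
    (hC : Nat.card (Subgroup.centralizer ({t} : Set G)) = 120) (h16 : ¬ 16 ∣ Nat.card G)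
    (h6 : Nat.card (Sylow 5 (Subgroup.centralizer ({t} : Set G))) = 6) :
    Nonempty (Subgroup.centralizer ({t} : Set G) ≃* Multiplicative (ZMod 2) × alternatingGroup (Fin 5)) := by
  classical
  haveI : Fact (Nat.Prime 2) := ⟨Nat.prime_two⟩
  set C := Subgroup.centralizer ({t} : Set G) with hCdef
  let tc : C := ⟨t, Subgroup.mem_centralizer_singleton_iff.2 rfl⟩
  have htc : orderOf tc = 2 := by rw [← Subgroup.orderOf_coe]; exact ht
  have hz : ∀ c : C, c * tc = tc * c := fun c => Subtype.ext (Subgroup.mem_centralizer_singleton_iff.1 c.2)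
  obtain ⟨π, hπ, hk⟩ := exists_map_A5 hC htc hz h6
  obtain ⟨S⟩ : Nonempty (Sylow 2 C) := inferInstance
  refine equiv_model hC htc hz π hπ hk S ?_
  have hkk : ∀ x : C, π x = 1 → x = 1 ∨ x = tc := fun x hx => by
    have hxk : x ∈ Subgroup.zpowers tc := hk ▸ MonoidHom.mem_ker.2 hx
    obtain ⟨k, rfl⟩ := hxk
    show tc ^ k = 1 ∨ tc ^ k = tc
    rw [← zpow_mod_orderOf, htc]
    rcases Int.emod_two_eq_zero_or_one k with h | h <;> simp [h]
  have hcen2 : tc * tc = 1 := by rw [← pow_two, ← htc, pow_orderOf_eq_one]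
  obtain ⟨s, hs2, hst, hs1⟩ : ∃ s : C, s * s = 1 ∧ s ≠ tc ∧ s ≠ 1 := by
    by_contra hc
    push Not at hc
    obtain ⟨U, hU⟩ := (S.isPGroup'.map C.subtype).exists_le_sylow
    have hUS : (U : Subgroup G) = (S : Subgroup C).map C.subtype := by
      refine (Subgroup.eq_of_le_of_card_ge hU (Nat.le_of_dvd Nat.card_pos ?_)).symm
      have h8 : Nat.card (S : Subgroup C) = 8 := by
        rw [Small.sylow_card (k := 3) (m := 15) (by rw [hC]; norm_num) (by norm_num) S]; norm_num
      rw [Subgroup.card_map_of_injective C.subtype_injective, h8]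
      obtain ⟨k, hk'⟩ := IsPGroup.iff_card.1 U.isPGroup'
      rw [hk', show (8 : ℕ) = 2 ^ 3 from rfl]
      refine pow_dvd_pow 2 (Nat.lt_succ_iff.1 (Nat.lt_of_not_le fun h4 => h16 ?_))
      exact (pow_dvd_pow 2 h4).trans (hk' ▸ Subgroup.card_subgroup_dvd_card _)
    have htU : t ∈ (U : Subgroup G) := by
      obtain ⟨S', hS'⟩ := (IsPGroup.of_card (n := 1) (by rw [Nat.card_zpowers, htc, pow_one]) :
        IsPGroup 2 (Subgroup.zpowers tc)).exists_le_sylow
      obtain ⟨g, hg⟩ := MulAction.exists_smul_eq C S' S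
      have h1 : tc ∈ (S : Subgroup C) := by
        rw [← hg, Sylow.coe_subgroup_smul, Subgroup.mem_pointwise_smul_iff_inv_smul_mem]
        rw [show (MulAut.conj g)⁻¹ • tc = tc by
          show g⁻¹ * tc * g = tc
          rw [mul_assoc, ← hz g, inv_mul_cancel_left]]
        exact hS' (Subgroup.mem_zpowers tc)
      exact hUS ▸ ⟨tc, h1, rfl⟩
    have hiso : ∀ g : G, g * t * g⁻¹ ∈ (U : Subgroup G) → g * t * g⁻¹ = t := by
      intro g hg
      rw [hUS] at hg
      obtain ⟨x, -, hx⟩ := hg
      have hx' : (x : G) = g * t * g⁻¹ := hx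
      have hx2 : x * x = 1 := Subtype.ext (by
        show (x : G) * x = 1
        rw [hx', show g * t * g⁻¹ * (g * t * g⁻¹) = g * (t * t) * g⁻¹ by group, ← pow_two, ← ht,
          pow_orderOf_eq_one]
        group)
      by_contra hne
      have hxt : x ≠ tc := fun h => hne (by rw [← hx', h])
      refine absurd (hc x hx2 hxt) fun h1 => ?_
      rw [h1, Subgroup.coe_one, eq_comm, conj_eq_one_iff] at hx'
      rw [hx', orderOf_one] at ht
      omega
    obtain ⟨N, hN, hodd, hcom⟩ := Cfsg.Agent.S0215.result U t ht htU hiso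
    rcases hN.eq_bot_or_eq_top with rfl | rfl
    · have hall : ∀ g : G, g ∈ C := fun g => by
        have h := Subgroup.mem_bot.1 (hcom g)
        rw [mul_inv_eq_one, mul_inv_eq_iff_eq_mul] at h
        exact Subgroup.mem_centralizer_singleton_iff.2 h.symm
      have hcar : t ∈ Subgroup.center G := Subgroup.mem_center_iff.2 fun g =>
        Subgroup.mem_centralizer_singleton_iff.1 (hall g)
      rcases (inferInstance : (Subgroup.center G).Normal).eq_bot_or_eq_top with h | h
      · rw [h, Subgroup.mem_bot] at hcar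
        rw [hcar, orderOf_one] at ht
        omega
      · obtain ⟨a, b, hab⟩ : ∃ a b : alternatingGroup (Fin 5), a * b ≠ b * a :=
          ⟨⟨Equiv.swap 0 1 * Equiv.swap 1 2, Equiv.Perm.mem_alternatingGroup.2 (by decide +kernel)⟩,
            ⟨Equiv.swap 1 2 * Equiv.swap 2 3, Equiv.Perm.mem_alternatingGroup.2 (by decide +kernel)⟩,
            by decide +kernel⟩
        obtain ⟨a', rfl⟩ := hπ a
        obtain ⟨b', rfl⟩ := hπ b
        refine hab ?_
        have hc' : a' * b' = b' * a' := Subtype.ext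
          (Subgroup.mem_center_iff.1 (show (a' : G) ∈ Subgroup.center G from h ▸ Subgroup.mem_top _) b').symm
        rw [← map_mul, ← map_mul, hc']
    · rw [Subgroup.card_top, Nat.odd_iff] at hodd
      have := (ht ▸ orderOf_dvd_natCard t : 2 ∣ Nat.card G)
      omega
  have hA : ∀ v w : alternatingGroup (Fin 5), v * v = 1 → w * w = 1 → v ≠ 1 → w ≠ 1 →
      ∃ a : alternatingGroup (Fin 5), a * v * a⁻¹ = w := by decide +kernel
  have hA4 : ∀ v : alternatingGroup (Fin 5), v ^ 4 = 1 → v * v = 1 := by decide +kernel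
  have hsq : ∀ x : C, π x * π x = 1 → x * x = 1 := by
    intro x hx
    by_cases h1 : π x = 1
    · rcases hkk x h1 with rfl | rfl
      · exact one_mul _
      · exact hcen2
    have hs0 : π s ≠ 1 := fun h => by
      rcases hkk s h with h | h
      · exact hs1 h
      · exact hst h
    obtain ⟨a, ha⟩ := hA (π s) (π x) (by rw [← map_mul, hs2, map_one]) hx hs0 h1
    obtain ⟨c, rfl⟩ := hπ a
    have h2 : π ((c * s * c⁻¹)⁻¹ * x) = 1 := by
      rw [map_mul, map_inv, map_mul, map_mul, map_inv, ha, inv_mul_cancel]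
    have hy : (c * s * c⁻¹) * (c * s * c⁻¹) = 1 := by
      rw [show c * s * c⁻¹ * (c * s * c⁻¹) = c * (s * s) * c⁻¹ by group, hs2]; group
    rcases hkk _ h2 with h | h
    · rw [← inv_mul_eq_one.1 h, hy]
    · rw [inv_mul_eq_iff_eq_mul] at h
      rw [h]
      generalize c * s * c⁻¹ = y at hy ⊢
      calc y * tc * (y * tc) = y * (tc * y) * tc := by group
        _ = y * (y * tc) * tc := by rw [hz y]
        _ = (y * y) * (tc * tc) := by group
        _ = 1 := by rw [hy, hcen2, one_mul]
  have hSsq : ∀ x : (S : Subgroup C), x * x = 1 := fun x => Subtype.ext (hsq x.1 (by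
    refine hA4 _ ?_ |> fun h => h
    have h8 : Nat.card (S : Subgroup C) = 8 := by
      rw [Small.sylow_card (k := 3) (m := 15) (by rw [hC]; norm_num) (by norm_num) S]; norm_num
    have hx8 : (x : C) ^ 8 = 1 := by
      have := pow_card_eq_one' (x := x)
      rw [h8] at this
      exact congrArg Subtype.val this
    have h8' : π (x : C) ^ 8 = 1 := by rw [← map_pow, hx8, map_one]
    have hA8 : ∀ v : alternatingGroup (Fin 5), v ^ 8 = 1 → v ^ 4 = 1 := by decide +kernel
    exact hA8 _ h8'))
  exact ⟨⟨fun a b => by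
    have hi : ∀ x : (S : Subgroup C), x⁻¹ = x := fun x => inv_eq_of_mul_eq_one_right (hSsq x)
    calc a * b = (a * b)⁻¹ := (hi _).symm
      _ = b * a := by rw [mul_inv_rev, hi, hi]⟩⟩

end Cfsg.Agent.JankoOne.Order
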