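import Cfsg.Agent.Lib.JankoOne.Order.Survivor
import Cfsg.Agent.Lib.JankoOne.Order.Centraliser
import Cfsg.Agent.Lib.JankoOne.Unique.Main

/-!
A simple group of order 175560 has an involution with centraliser `Z₂ × A₅`.
-/

set_option autoImplicit false
set_option linter.style.haveILetI false

namespace Cfsg.Agent.JankoOne.Order

open Cfsg.Agent.J1Order (cent)

variable {G : Type*} [Group G] [Finite G] [IsSimpleGroup G]

theorem exists_centraliser (hm : Nat.card G = 175560) :
    ∃ t : G, orderOf t = 2 ∧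
      Nonempty (Subgroup.centralizer ({t} : Set G) ≃* Multiplicative (ZMod 2) × alternatingGroup (Fin 5)) := by
  classical
  haveI h2f : Fact (Nat.Prime 2) := ⟨Nat.prime_two⟩
  have hG : ¬ IsMulCommutative G := Small.not_comm_of_card (by rw [hm]; norm_num)
  have hmd : Nat.card G ∣ 175560 := dvd_of_eq hm
  have h16 : ¬ 16 ∣ Nat.card G := by rw [hm]; norm_num
  have hone : ∀ u v : G, orderOf u = 2 → orderOf v = 2 → IsConj u v :=
    fun u v hu hv => J1Order.one_class hG (J1Order.sylow_two_dvd hmd) hu hv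
  set ps := [19, 11, 7, 5, 3] with hpsdef
  have hps : ∀ p ∈ ps, p ∈ [19, 11, 7, 5, 3] ∧ p ∣ Nat.card G := fun p hp => ⟨hp, by
    rw [hm]
    simp only [hpsdef, List.mem_cons, List.not_mem_nil, or_false] at hp
    rcases hp with rfl | rfl | rfl | rfl | rfl <;> norm_num⟩
  have hnd : ps.Nodup := by rw [hpsdef]; decide
  have hp2 : ∀ p ∈ ps, ¬ p * p ∣ Nat.card G := fun p hp h => (J1Order.mem_primes hp).2.1 (h.trans hmd)
  have hall : ∀ p ∈ ps, ∀ P : Sylow p G, Nat.card (P : Subgroup G) = p := fun p hp P => by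
    haveI : Fact p.Prime := ⟨(J1Order.mem_primes hp).1⟩
    exact J1Order.card_sylow_prime (hps p hp).2 (hp2 p hp) P
  have hS : ∀ p : ℕ, Nonempty (Sylow p G) := fun p => inferInstance
  let S : ∀ p, Sylow p G := fun p => (hS p).some
  obtain ⟨t, ht⟩ := exists_prime_orderOf_dvd_card' (G := G) 2 (by rw [hm]; norm_num)
  set C := Subgroup.centralizer ({t} : Set G) with hC
  -- the order of the centraliser
  have hC8 : 8 ∣ Nat.card C := by
    obtain ⟨T⟩ : Nonempty (Sylow 2 G) := inferInstance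
    have hT : Nat.card (T : Subgroup G) = 8 := by
      rw [Small.sylow_card (k := 3) (m := 21945) (by rw [hm]; norm_num) (by norm_num) T]; norm_num
    haveI : Nontrivial (T : Subgroup G) := Finite.one_lt_card_iff_nontrivial.1 (by rw [hT]; norm_num)
    haveI := T.isPGroup'.center_nontrivial
    obtain ⟨n, hn, hcn⟩ := (T.isPGroup'.to_subgroup (Subgroup.center (T : Subgroup G))).nontrivial_iff_card.1 inferInstance
    obtain ⟨z, hz⟩ := exists_prime_orderOf_dvd_card' (G := Subgroup.center (T : Subgroup G)) 2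
      (hcn ▸ dvd_pow_self 2 (Nat.pos_iff_ne_zero.1 hn))
    obtain ⟨g, hg⟩ := isConj_iff.1 (hone ((z : (T : Subgroup G)) : G) t
      (by rw [Subgroup.orderOf_coe, Subgroup.orderOf_coe, hz]) ht)
    rw [← hT, Nat.card_congr ((T : Subgroup G).equivMapOfInjective (MulAut.conj g).toMonoidHom
      (MulAut.conj g).injective).toEquiv]
    refine Subgroup.card_dvd_of_le ?_
    rintro _ ⟨x, hx, rfl⟩
    rw [hC, Subgroup.mem_centralizer_singleton_iff, ← hg]
    show g * x * g⁻¹ * (g * _ * g⁻¹) = g * _ * g⁻¹ * (g * x * g⁻¹)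
    have h := congrArg Subtype.val (Subgroup.mem_center_iff.1 z.2 ⟨x, hx⟩)
    simp only [Subgroup.coe_mul] at h
    rw [show g * x * g⁻¹ * (g * ((z : (T : Subgroup G)) : G) * g⁻¹) = g * (x * ((z : (T : Subgroup G)) : G)) * g⁻¹ by group, h]
    group
  have hclass : ∀ p ∈ ps, (2 ∣ Nat.card (cent (S p : Subgroup G)) ↔ p ∣ Nat.card C) := by
    intro p hp
    haveI : Fact p.Prime := ⟨(J1Order.mem_primes hp).1⟩
    refine ⟨fun h => (pairs_invol (J1Order.mem_primes hp).2.2 (hp2 p hp) (hall p hp) hone (S p) ht h).1, fun h => ?_⟩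
    obtain ⟨y, hy⟩ := exists_prime_orderOf_dvd_card' p h
    exact J1Order.dvd_card_cent_of_commute (hall p hp) (x := (y : G)) (y := t)
      (by rw [Subgroup.orderOf_coe, hy]) ht (Subgroup.mem_centralizer_singleton_iff.1 y.2).symm (S p)
  set l := ps.map fun p => J1Order.datum p (S p) with hl
  have hct : Nat.card C = ct l := by
    have hdiv := Subgroup.card_subgroup_dvd_card C
    rw [hm] at hdiv
    have h := List.all_eq_true.1 divs_split _ (J1Order.mem_divs hdiv)
    rw [Bool.or_eq_true, decide_eq_true_eq] at h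
    rcases h with h | h
    · simp [Nat.dvd_iff_mod_eq_zero.1 hC8] at h
    rw [h, ct]
    congr 1
    rw [hl, List.filter_map, List.map_map, show ((fun x : J1Order.Datum => x.1) ∘ fun p => J1Order.datum p (S p)) = id from rfl,
      List.map_id]
    refine congrArg List.prod (List.filter_congr fun p hp => ?_)
    simp only [Function.comp_apply, J1Order.datum, decide_eq_decide, ← Nat.dvd_iff_mod_eq_zero]
    exact (hclass p hp).symm
  -- the invariants of the involutions
  have hinv : ∀ p ∈ ps, 2 ∣ Nat.card (cent (S p : Subgroup G)) →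
      ∃ i m', m' ∈ invOpts l (J1Order.datum p (S p)) ∧ Nat.card (Sylow p C) = m' ∧
        Nat.card (Sylow p G) * i = 175560 / Nat.card C * m' ∧
        ∀ P' : Sylow p G, Nat.card {u : {u : G // orderOf u = 2} // u.1 ∈ cent (P' : Subgroup G)} = i := by
    intro p hp h
    haveI : Fact p.Prime := ⟨(J1Order.mem_primes hp).1⟩
    obtain ⟨-, i, hi1, hi2, hi3, hm1, hm2, he⟩ :=
      pairs_invol (J1Order.mem_primes hp).2.2 (hp2 p hp) (hall p hp) hone (S p) ht h
    rw [hm] at he
    refine ⟨i, _, List.mem_filter.2 ⟨List.mem_filter.2 ⟨J1Order.mem_divs (hm2.trans ((Nat.div_dvd_of_dvd ((hclass p hp).1 h)).trans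
      ((Subgroup.card_subgroup_dvd_card C).trans hmd))), ?_⟩, ?_⟩, rfl, he, hi3⟩
    · simp only [Bool.and_eq_true, decide_eq_true_eq]
      exact ⟨hm1, Nat.mod_eq_zero_of_dvd (hct ▸ hm2)⟩
    · simp only [Bool.and_eq_true]
      refine ⟨⟨decide_eq_true ?_, decide_eq_true ?_⟩, decide_eq_true ?_⟩
      all_goals simp only [J1Order.datum]
      all_goals rw [← hct, ← he]
      · exact Nat.mul_mod_right _ _
      · rwa [Nat.mul_div_cancel_left _ Nat.card_pos]
      · rwa [Nat.mul_div_cancel_left _ Nat.card_pos]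
  have hB : ruleB l = true := by
    rw [ruleB, List.all_eq_true]
    intro a ha
    rw [List.all_eq_true]
    intro b hb
    obtain ⟨p, hp, rfl⟩ := List.mem_map.1 ha
    obtain ⟨q, hq, rfl⟩ := List.mem_map.1 hb
    haveI : Fact p.Prime := ⟨(J1Order.mem_primes hp).1⟩
    haveI : Fact q.Prime := ⟨(J1Order.mem_primes hq).1⟩
    simp only [Bool.or_eq_true, Bool.not_eq_true', J1Order.datum, List.any_eq_true]
    by_cases hpq : p = q
    · exact Or.inl (Or.inl (decide_eq_true hpq))
    by_cases hd : Nat.card (cent (S p : Subgroup G)) % q = 0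
    swap
    · exact Or.inl (Or.inr (decide_eq_false hd))
    obtain ⟨m, m', h1, h2, h3, h4, he⟩ := pairs_sylow hpq (hall p hp) (hall q hq) (hp2 p hp) (hp2 q hq) (S p) (S q)
      (Nat.dvd_of_mod_eq_zero hd)
    have hdiv : ∀ (r : ℕ) (x : ℕ), x ∣ Nat.card (cent (S r : Subgroup G)) / p / q →
        p * q ∣ Nat.card (cent (S r : Subgroup G)) → x ∣ 175560 := fun r x hx hpqd => by
      rw [Nat.div_div_eq_div_mul] at hx
      exact hx.trans ((Nat.div_dvd_of_dvd hpqd).trans ((Subgroup.card_subgroup_dvd_card _).trans hmd))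
    have hpP : ∀ r, r ∈ ps → r ∣ Nat.card (cent (S r : Subgroup G)) := fun r hr => by
      haveI : Fact r.Prime := ⟨(J1Order.mem_primes hr).1⟩
      exact (dvd_of_eq (hall r hr _).symm).trans (Subgroup.card_dvd_of_le (Small.le_centralizer_self _ (hall r hr _)))
    have hcop := (Nat.coprime_primes (J1Order.mem_primes hp).1 (J1Order.mem_primes hq).1).2 hpq
    refine Or.inr ⟨m, List.mem_filter.2 ⟨J1Order.mem_divs (hdiv p m h2
      (hcop.mul_dvd_of_dvd_of_dvd (hpP p hp) (Nat.dvd_of_mod_eq_zero hd))), ?_⟩, m', List.mem_filter.2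
      ⟨J1Order.mem_divs (hdiv q m' h4 (hcop.mul_dvd_of_dvd_of_dvd
        (J1Order.dvd_cent_symm (hall q hq) (S p) (S q) (hall p hp _) (Nat.dvd_of_mod_eq_zero hd)) (hpP q hq))), ?_⟩, decide_eq_true he⟩
    · simp only [Bool.and_eq_true, decide_eq_true_eq]
      exact ⟨h1, Nat.mod_eq_zero_of_dvd h2⟩
    · simp only [Bool.and_eq_true, decide_eq_true_eq]
      exact ⟨h3, Nat.mod_eq_zero_of_dvd h4⟩
  have hI : ruleI l = true := by
    rw [ruleI, List.all_eq_true]
    intro a ha
    obtain ⟨p, hp, rfl⟩ := List.mem_map.1 ha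
    simp only [Bool.or_eq_true, Bool.not_eq_true', J1Order.datum, List.any_eq_true]
    by_cases hd : Nat.card (cent (S p : Subgroup G)) % 2 = 0
    swap
    · exact Or.inl (decide_eq_false hd)
    obtain ⟨i, m', hm', -⟩ := hinv p hp (Nat.dvd_of_mod_eq_zero hd)
    exact Or.inr ⟨m', hm', trivial⟩
  have hsurv : J1Order.survives 175560 l = true := by
    rw [← hm, J1Order.survives, J1Order.ruleE_ok hG hmd S ps hps, J1Order.ruleF_ok hG hmd S ps hps hnd,
      J1Order.ruleC_ok hmd S ps hps hnd]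
    rfl
  have hmem : l ∈ [big, small] := by
    rw [← survivors]
    refine List.mem_filter.2 ⟨hm ▸ J1Order.mem_build hG hmd S ps hps hnd, ?_⟩
    simp [hB, hI, hsurv]
  have hdat : ∀ {L : List J1Order.Datum}, l = L → (J1Order.datum 5 (S 5)) = L.getD 3 (0, 0, 0) ∧
      J1Order.datum 3 (S 3) = L.getD 4 (0, 0, 0) := fun h => by subst h; exact ⟨rfl, rfl⟩
  refine ⟨t, ht, ?_⟩
  haveI h5 : Fact (Nat.Prime 5) := ⟨by norm_num⟩
  haveI h3 : Fact (Nat.Prime 3) := ⟨Nat.prime_three⟩
  simp only [List.mem_cons, List.not_mem_nil, or_false] at hmem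
  rcases hmem with hl' | hl'
  · -- the centraliser of order 1320 is impossible
    exfalso
    obtain ⟨e5, e3⟩ := hdat hl'
    have e5' : J1Order.datum 5 (S 5) = (5, 2926, 30) := e5
    have e3' : J1Order.datum 3 (S 3) = (3, 2926, 30) := e3
    have c5 : Nat.card (cent (S 5 : Subgroup G)) = 30 := congrArg (fun d : J1Order.Datum => d.2.2) e5'
    have c3 : Nat.card (cent (S 3 : Subgroup G)) = 30 := congrArg (fun d : J1Order.Datum => d.2.2) e3'
    have n5 : Nat.card (Sylow 5 G) = 2926 := congrArg (fun d : J1Order.Datum => d.2.1) e5'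
    have n3 : Nat.card (Sylow 3 G) = 2926 := congrArg (fun d : J1Order.Datum => d.2.1) e3'
    obtain ⟨i5, m5, hm5, -, he5, hi5⟩ := hinv 5 (by simp [hpsdef]) (by rw [c5]; norm_num)
    obtain ⟨i3, m3, hm3, -, he3, hi3⟩ := hinv 3 (by simp [hpsdef]) (by rw [c3]; norm_num)
    rw [hl'] at hm5 hm3 hct
    rw [e5', opts_big.1, List.mem_singleton] at hm5
    rw [e3', opts_big.2.1, List.mem_singleton] at hm3
    rw [hct, opts_big.2.2, n5, hm5] at he5
    rw [hct, opts_big.2.2, n3, hm3] at he3
    have hi5' : i5 = 3 := by omega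
    have hi3' : i3 = 1 := by omega
    set K := cent (S 3 : Subgroup G) with hK
    obtain ⟨u, hu⟩ := exists_prime_orderOf_dvd_card' (G := K) 2 (by rw [c3]; norm_num)
    obtain ⟨y, hy⟩ := exists_prime_orderOf_dvd_card' (G := K) 5 (by rw [c3]; norm_num)
    obtain ⟨x, hx⟩ := exists_prime_orderOf_dvd_card' (G := (S 3 : Subgroup G)) 3 (dvd_of_eq (hall 3 (by simp [hpsdef]) _).symm)
    have hsub : Subsingleton {v : {v : G // orderOf v = 2} // v.1 ∈ cent (S 3 : Subgroup G)} :=
      (Nat.card_eq_one_iff_unique.1 ((hi3 (S 3)).trans hi3')).1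
    have huy : (y : G) * u = u * y := by
      have h : orderOf ((y : G) * u * (y : G)⁻¹) = 2 := by
        rw [← MulAut.conj_apply, MulEquiv.orderOf_eq, Subgroup.orderOf_coe, hu]
      have h' := congrArg (fun v => v.1.1) (hsub.elim
        ⟨⟨_, h⟩, mul_mem (mul_mem y.2 u.2) (inv_mem y.2)⟩ ⟨⟨(u : G), by rw [Subgroup.orderOf_coe, hu]⟩, u.2⟩)
      exact mul_inv_eq_iff_eq_mul.1 h'
    have hxy : (y : G) * x = x * y := (Subgroup.mem_centralizer_iff.1 y.2 x x.2).symm
    have hxu : (u : G) * x = x * u := (Subgroup.mem_centralizer_iff.1 u.2 x x.2).symm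
    have hox : orderOf (x : G) = 3 := by rw [Subgroup.orderOf_coe, hx]
    have hoy : orderOf (y : G) = 5 := by rw [Subgroup.orderOf_coe, hy]
    have hou : orderOf (u : G) = 2 := by rw [Subgroup.orderOf_coe, hu]
    obtain ⟨P5, hP5⟩ := J1Order.sylow_eq_zpowers (hall 5 (by simp [hpsdef])) hoy
    set g := (y : G) * (x * u) with hg
    have hc1 : Commute (x : G) u := hxu.symm
    have hc2 : Commute (y : G) (x * u) := Commute.mul_right hxy huy
    have hog : orderOf g = 30 := by
      rw [hg, hc2.orderOf_mul_eq_mul_orderOf_of_coprime, hc1.orderOf_mul_eq_mul_orderOf_of_coprime, hox, hoy, hou]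
      · rw [hox, hou]; norm_num
      · rw [hc1.orderOf_mul_eq_mul_orderOf_of_coprime (by rw [hox, hou]; norm_num), hox, hoy, hou]
        norm_num
    have hgmem : g ∈ cent (P5 : Subgroup G) := by
      rw [hP5, J1Order.mem_cent_zpowers, hg]
      exact ((Commute.refl _).mul_left hc2.symm).eq
    have hcyc : cent (P5 : Subgroup G) = Subgroup.zpowers g := by
      refine (Subgroup.eq_of_le_of_card_ge (Subgroup.zpowers_le.2 hgmem) ?_).symm
      rw [Nat.card_zpowers, hog, J1Order.card_cent_eq P5 (S 5), c5]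
    have hle : Nat.card {v : {v : G // orderOf v = 2} // v.1 ∈ cent (P5 : Subgroup G)} ≤ 1 := by
      refine Finite.card_le_one_iff_subsingleton.2 ⟨fun a b => ?_⟩
      have key : ∀ a : {v : {v : G // orderOf v = 2} // v.1 ∈ cent (P5 : Subgroup G)}, a.1.1 = g ^ 15 := by
        rintro ⟨⟨v, hv⟩, hvm⟩
        rw [hcyc] at hvm
        obtain ⟨k, hk, rfl⟩ := (IsOfFinOrder.mem_zpowers_iff_mem_range_orderOf (isOfFinOrder_of_finite g)).1 hvm
          |> Finset.mem_image.1 |> fun ⟨k, hk, e⟩ => (⟨k, Finset.mem_range.1 hk, e.symm⟩ : ∃ k, k < orderOf g ∧ v = g ^ k)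
        rw [hog] at hk
        show g ^ k = g ^ 15
        have h1 : g ^ (k * 2) = 1 := by rw [pow_mul, ← hv, pow_orderOf_eq_one]
        have h2 := orderOf_dvd_of_pow_eq_one h1
        rw [hog] at h2
        rcases eq_or_ne k 0 with rfl | h0
        · simp at hv
        · congr 1; omega
      exact Subtype.ext (Subtype.ext ((key a).trans (key b).symm))
    rw [hi5 P5, hi5'] at hle
    norm_num at hle
  · obtain ⟨e5, -⟩ := hdat hl'
    have e5' : J1Order.datum 5 (S 5) = (5, 2926, 30) := e5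
    have c5 : Nat.card (cent (S 5 : Subgroup G)) = 30 := congrArg (fun d : J1Order.Datum => d.2.2) e5'
    obtain ⟨i5, m5, hm5, hn5, -, -⟩ := hinv 5 (by simp [hpsdef]) (by rw [c5]; norm_num)
    rw [hl'] at hm5 hct
    rw [e5', opts_small.1, List.mem_singleton] at hm5
    exact centraliser_equiv ht (hct.trans opts_small.2.2) h16 (hn5.trans hm5)

/-- All simple groups of order 175560 are isomorphic. -/
theorem iso_tableGroup_of_card (hm : Nat.card G = 175560) : Nonempty (G ≃* tableGroup) := by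
  obtain ⟨t, ht, ⟨e⟩⟩ := exists_centraliser hm
  exact iso_tableGroup_of_centralizer t (twoCentral_of_two t ht (by rw [hm]; norm_num) e) e

end Cfsg.Agent.JankoOne.Order
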