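import Cfsg.Agent.Lib.FGStruct.J1Order.Exclude
import Mathlib.GroupTheory.Perm.Cycle.Type
import Mathlib.Combinatorics.Enumerative.DoubleCounting

/-!
Counting commuting pairs of Sylow subgroups, and of Sylow subgroups and involutions.
-/

set_option autoImplicit false
set_option linter.style.haveILetI false

namespace Cfsg.Agent.JankoOne.Order

open Cfsg.Agent.J1Order (cent)

variable {G : Type*} [Group G] [Finite G]

theorem card_pairs {A B : Type*} [Finite A] [Finite B] (R : A → B → Prop) {m m' : ℕ}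
    (hm : ∀ a, Nat.card {b // R a b} = m) (hm' : ∀ b, Nat.card {a // R a b} = m') :
    Nat.card A * m = Nat.card B * m' := by
  classical
  haveI : Fintype A := Fintype.ofFinite A
  haveI : Fintype B := Fintype.ofFinite B
  have h := Finset.sum_card_bipartiteAbove_eq_sum_card_bipartiteBelow (s := (Finset.univ : Finset A))
    (t := (Finset.univ : Finset B)) R
  rw [Finset.sum_const_nat (m := m) fun a _ => by rw [← hm a, Nat.card_eq_fintype_card, Fintype.card_subtype]; rfl,
    Finset.sum_const_nat (m := m') fun b _ => by rw [← hm' b, Nat.card_eq_fintype_card, Fintype.card_subtype]; rfl,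
    Finset.card_univ, Finset.card_univ] at h
  rwa [Nat.card_eq_fintype_card, Nat.card_eq_fintype_card]

/-- Sylow subgroups of prime order lying in a subgroup. -/
theorem card_sylow_le {q : ℕ} [Fact q.Prime] (hq : ∀ Q : Sylow q G, Nat.card (Q : Subgroup G) = q)
    (hq2 : ¬ q * q ∣ Nat.card G) (K : Subgroup G) (hd : q ∣ Nat.card K) :
    Nat.card {Q : Sylow q G // (Q : Subgroup G) ≤ K} = Nat.card (Sylow q K) := by
  refine Nat.card_eq_of_bijective (fun Q => Q.1.subtype Q.2) ⟨fun Q R h => ?_, fun R => ?_⟩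
  · refine Subtype.ext (Sylow.ext ?_)
    have h' := congrArg (fun S : Sylow q K => (S : Subgroup K).map K.subtype) h
    simpa [Sylow.coe_subtype, Subgroup.map_subgroupOf_eq_of_le Q.2, Subgroup.map_subgroupOf_eq_of_le R.2] using h'
  · have hR := J1Order.card_sylow_prime hd (fun h => hq2 (h.trans (Subgroup.card_subgroup_dvd_card K))) R
    obtain ⟨Q, hQ⟩ := (R.isPGroup'.map K.subtype).exists_le_sylow
    have e : (R : Subgroup K).map K.subtype = Q := Subgroup.eq_of_le_of_card_ge hQ (by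
      rw [Subgroup.card_map_of_injective K.subtype_injective, hR, hq Q])
    refine ⟨⟨Q, e ▸ Subgroup.map_subtype_le _⟩, Sylow.ext ?_⟩
    rw [Sylow.coe_subtype, ← e, Subgroup.subgroupOf,
      Subgroup.comap_map_eq_self_of_injective K.subtype_injective]

theorem sylow_count {q : ℕ} [hq : Fact q.Prime] (hq2 : ¬ q * q ∣ Nat.card G) (K : Subgroup G)
    (hd : q ∣ Nat.card K) (d : ℕ) (hdK : ∀ R : Sylow q K, d ∣ Nat.card (Subgroup.normalizer ((R : Subgroup K) : Set K))) :
    Nat.card (Sylow q K) % q = 1 ∧ Nat.card (Sylow q K) ∣ Nat.card K / (Nat.lcm d q) := by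
  obtain ⟨R⟩ : Nonempty (Sylow q K) := inferInstance
  refine ⟨by rw [card_sylow_modEq_one q K, Nat.mod_eq_of_lt hq.out.one_lt], ?_⟩
  have h1 := Small.card_normalizer_mul R
  have hR := J1Order.card_sylow_prime hd (fun h => hq2 (h.trans (Subgroup.card_subgroup_dvd_card K))) R
  obtain ⟨e, he⟩ := Nat.lcm_dvd (hdK R) ((dvd_of_eq hR.symm).trans (Subgroup.card_dvd_of_le Subgroup.le_normalizer))
  refine ⟨e, ?_⟩
  rw [← h1, he, mul_assoc, Nat.mul_div_cancel_left _ (Nat.pos_of_ne_zero fun h => ?_), mul_comm]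
  rw [h, zero_mul] at he
  exact Nat.card_pos.ne' he

/-- Commuting Sylow subgroups. -/
theorem cent_count {p q : ℕ} [hp : Fact p.Prime] [hq : Fact q.Prime] (hpq : p ≠ q)
    (hP : ∀ P : Sylow p G, Nat.card (P : Subgroup G) = p) (hQ : ∀ Q : Sylow q G, Nat.card (Q : Subgroup G) = q)
    (hq2 : ¬ q * q ∣ Nat.card G) (P : Sylow p G) (hd : q ∣ Nat.card (cent (P : Subgroup G))) :
    ∃ m, m % q = 1 ∧ m ∣ Nat.card (cent (P : Subgroup G)) / p / q ∧
      ∀ P' : Sylow p G, Nat.card {Q : Sylow q G // (Q : Subgroup G) ≤ cent (P' : Subgroup G)} = m := by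
  set C := cent (P : Subgroup G)
  refine ⟨Nat.card (Sylow q C), ?_⟩
  have hPC : (P : Subgroup G) ≤ C := Small.le_centralizer_self _ (hP P)
  obtain ⟨h1, h2⟩ := sylow_count hq2 C hd p fun R => by
    have : (P : Subgroup G).subgroupOf C ≤ Subgroup.normalizer ((R : Subgroup C) : Set C) := by
      intro x hx
      refine Small.centralizer_le_normalizer _ (Subgroup.mem_centralizer_iff.2 fun y _ => Subtype.ext ?_)
      exact (Subgroup.mem_centralizer_iff.1 y.2 x.1 hx).symm
    exact (dvd_of_eq ((Nat.card_congr (Subgroup.subgroupOfEquivOfLe hPC).toEquiv).trans (hP P)).symm).trans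
      (Subgroup.card_dvd_of_le this)
  refine ⟨h1, ?_, fun P' => ?_⟩
  · rwa [Nat.div_div_eq_div_mul, ← ((Nat.coprime_primes hp.out hq.out).2 hpq).lcm_eq_mul]
  · rw [← card_sylow_le hQ hq2 C hd]
    obtain ⟨g, rfl⟩ := MulAction.exists_smul_eq G P P'
    have hmove : ∀ (h : G) (S : Sylow p G) (Q : Sylow q G), (Q : Subgroup G) ≤ cent (S : Subgroup G) →
        ((h • Q : Sylow q G) : Subgroup G) ≤ cent ((h • S : Sylow p G) : Subgroup G) := by
      intro h S Q hQ x hx
      rw [Sylow.coe_subgroup_smul, Subgroup.mem_pointwise_smul_iff_inv_smul_mem] at hx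
      refine Subgroup.mem_centralizer_iff.2 fun y hy => ?_
      rw [SetLike.mem_coe, Sylow.coe_subgroup_smul, Subgroup.mem_pointwise_smul_iff_inv_smul_mem] at hy
      have h' := congrArg ((MulAut.conj h) • ·) (Subgroup.mem_centralizer_iff.1 (hQ hx) _ hy)
      simpa only [smul_mul', smul_inv_smul] using h'
    exact (Nat.card_congr ((MulAction.toPerm g).subtypeEquiv fun Q => ⟨hmove g P Q, fun h => by
      simpa only [MulAction.toPerm_apply, inv_smul_smul] using hmove g⁻¹ _ _ h⟩)).symm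

theorem pairs_sylow {p q : ℕ} [hp : Fact p.Prime] [hq : Fact q.Prime] (hpq : p ≠ q)
    (hP : ∀ P : Sylow p G, Nat.card (P : Subgroup G) = p) (hQ : ∀ Q : Sylow q G, Nat.card (Q : Subgroup G) = q)
    (hp2 : ¬ p * p ∣ Nat.card G) (hq2 : ¬ q * q ∣ Nat.card G) (P : Sylow p G) (Q : Sylow q G)
    (hd : q ∣ Nat.card (cent (P : Subgroup G))) :
    ∃ m m', m % q = 1 ∧ m ∣ Nat.card (cent (P : Subgroup G)) / p / q ∧ m' % p = 1 ∧
      m' ∣ Nat.card (cent (Q : Subgroup G)) / p / q ∧ Nat.card (Sylow p G) * m = Nat.card (Sylow q G) * m' := by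
  have hd' := J1Order.dvd_cent_symm hQ P Q (hP P) hd
  obtain ⟨m, h1, h2, h3⟩ := cent_count hpq hP hQ hq2 P hd
  obtain ⟨m', h1', h2', h3'⟩ := cent_count hpq.symm hQ hP hp2 Q hd'
  rw [Nat.div_div_eq_div_mul, mul_comm, ← Nat.div_div_eq_div_mul] at h2'
  refine ⟨m, m', h1, h2, h1', h2', card_pairs (fun (P : Sylow p G) (Q : Sylow q G) =>
    (Q : Subgroup G) ≤ cent (P : Subgroup G)) h3 fun Q' => ?_⟩
  rw [← h3' Q']
  exact Nat.card_congr (Equiv.subtypeEquivRight fun _ => Subgroup.le_centralizer_iff)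

/-- The involutions centralising a Sylow subgroup of odd prime order. -/
theorem cent_invol {p : ℕ} [hp : Fact p.Prime] (hp2 : p ≠ 2)
    (hP : ∀ P : Sylow p G, Nat.card (P : Subgroup G) = p) (P : Sylow p G)
    (h2 : 2 ∣ Nat.card (cent (P : Subgroup G))) :
    ∃ i, i % 2 = 1 ∧ i < Nat.card (cent (P : Subgroup G)) / p ∧
      ∀ P' : Sylow p G, Nat.card {t : {t : G // orderOf t = 2} // t.1 ∈ cent (P' : Subgroup G)} = i := by
  classical
  set C := cent (P : Subgroup G) with hC
  haveI : Fintype C := Fintype.ofFinite C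
  let i := (Finset.univ.filter fun x : C => x * x = 1 ∧ x ≠ 1).card
  refine ⟨i, ?_, ?_, fun P' => ?_⟩
  · have hf : (show Function.End C from fun x => x⁻¹) ^ 2 ^ 1 = 1 := funext fun x => inv_inv x
    haveI : Fact (Nat.Prime 2) := ⟨Nat.prime_two⟩
    have hm := Equiv.Perm.card_fixedPoints_modEq hf
    have hc : Fintype.card (Function.fixedPoints (fun x : C => x⁻¹)) = i + 1 := by
      rw [Fintype.card_congr (β := {x : C // x * x = 1}) (Equiv.subtypeEquivRight fun x => by
          show x⁻¹ = x ↔ x * x = 1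
          rw [inv_eq_iff_mul_eq_one]), Fintype.card_subtype,
        show (Finset.univ.filter fun x : C => x * x = 1) = insert 1 (Finset.univ.filter fun x : C => x * x = 1 ∧ x ≠ 1) from ?_,
        Finset.card_insert_of_notMem (by simp)]
      ext x
      by_cases hx : x = 1 <;> simp [hx]
    rw [Nat.card_eq_fintype_card] at h2
    unfold Nat.ModEq at hm
    rw [hc] at hm
    omega
  · have hPC : (P : Subgroup G) ≤ C := Small.le_centralizer_self _ (hP P)
    have hidx : Nat.card C / p = Nat.card (C ⧸ (P : Subgroup G).subgroupOf C) := by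
      rw [Subgroup.card_eq_card_quotient_mul_card_subgroup ((P : Subgroup G).subgroupOf C),
        Nat.card_congr (Subgroup.subgroupOfEquivOfLe hPC).toEquiv, hP P, Nat.mul_div_cancel _ hp.out.pos]
    rw [hidx, Nat.card_eq_fintype_card]
    refine lt_of_lt_of_le ?_ (Finset.card_le_univ
      ((Finset.univ.filter fun x : C => x * x = 1).image (QuotientGroup.mk (s := (P : Subgroup G).subgroupOf C))))
    rw [Finset.card_image_of_injOn]
    · exact Finset.card_lt_card ((Finset.ssubset_iff_of_subset fun x hx => Finset.mem_filter.2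
        ⟨Finset.mem_univ _, (Finset.mem_filter.1 hx).2.1⟩).2 ⟨1, by simp, by simp⟩)
    · intro x hx y hy h
      have hx2 : x * x = 1 := (Finset.mem_filter.1 hx).2
      have hy2 : y * y = 1 := (Finset.mem_filter.1 hy).2
      have hw := QuotientGroup.eq.1 h
      have hcomm : x * (x⁻¹ * y) = x⁻¹ * y * x := Subtype.ext
        (Subgroup.mem_centralizer_iff.1 x.2 _ (Subgroup.mem_subgroupOf.1 hw)).symm
      have hw2 : (x⁻¹ * y) * (x⁻¹ * y) = 1 := by
        calc (x⁻¹ * y) * (x⁻¹ * y) = x⁻¹ * ((x * (x⁻¹ * y)) * (x⁻¹ * y)) := by group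
          _ = x⁻¹ * (x⁻¹ * y * (x * (x⁻¹ * y))) := by conv_lhs => rw [hcomm, mul_assoc (x⁻¹ * y) x]
          _ = x⁻¹ * x⁻¹ * (y * y) := by group
          _ = 1 := by rw [hy2, mul_one, ← mul_inv_rev, hx2, inv_one]
      refine (inv_mul_eq_one.1 (orderOf_eq_one_iff.1 (Nat.eq_one_of_dvd_coprimes
        ((Nat.coprime_primes Nat.prime_two hp.out).2 (Ne.symm hp2))
        (orderOf_dvd_of_pow_eq_one (by rw [pow_two, hw2]))
        (?_ : orderOf (x⁻¹ * y) ∣ p))))
      rw [← Subgroup.orderOf_coe]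
      exact (Subgroup.orderOf_dvd_natCard _ (Subgroup.mem_subgroupOf.1 hw)).trans (dvd_of_eq (hP P))
  · obtain ⟨g, rfl⟩ := MulAction.exists_smul_eq G P P'
    have hmove : ∀ (h : G) (S : Sylow p G) (x : G), x ∈ cent (S : Subgroup G) →
        h * x * h⁻¹ ∈ cent ((h • S : Sylow p G) : Subgroup G) := fun h S x hx => by
      refine Subgroup.mem_centralizer_iff.2 fun y hy => ?_
      rw [SetLike.mem_coe, Sylow.coe_subgroup_smul, Subgroup.mem_pointwise_smul_iff_inv_smul_mem] at hy
      have h' := congrArg (MulAut.conj h • ·) (Subgroup.mem_centralizer_iff.1 hx _ hy)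
      simp only [smul_mul', smul_inv_smul] at h'
      exact h'
    show _ = (Finset.univ.filter fun x : C => x * x = 1 ∧ x ≠ 1).card
    rw [← Fintype.card_coe, ← Nat.card_eq_fintype_card]
    have ho : ∀ x : C, x ∈ (Finset.univ.filter fun x : C => x * x = 1 ∧ x ≠ 1) ↔ orderOf (x : G) = 2 := fun x => by
      rw [Subgroup.orderOf_coe, Finset.mem_filter]
      constructor
      · rintro ⟨-, h1, h2⟩
        exact orderOf_eq_prime (by rw [pow_two, h1]) h2
      · intro h
        exact ⟨Finset.mem_univ _, by rw [← pow_two, ← h, pow_orderOf_eq_one], fun e => by simp [e] at h⟩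
    let f : {x // x ∈ (Finset.univ.filter fun x : C => x * x = 1 ∧ x ≠ 1)} →
        {t : {t : G // orderOf t = 2} // t.1 ∈ cent ((g • P : Sylow p G) : Subgroup G)} :=
      fun x => ⟨⟨g * (x.1 : G) * g⁻¹, ((MulAut.conj g).orderOf_eq _).trans ((ho _).1 x.2)⟩, hmove g P _ x.1.2⟩
    refine (Nat.card_eq_of_bijective f ⟨fun x y h => ?_, fun t => ?_⟩).symm
    · exact Subtype.ext (Subtype.ext (mul_left_cancel (mul_right_cancel (congrArg (fun t => (t.1 : G)) h))))
    · have h1 := hmove g⁻¹ (g • P) _ t.2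
      rw [inv_smul_smul, inv_inv] at h1
      refine ⟨⟨⟨g⁻¹ * t.1.1 * g, h1⟩, (ho _).2 ?_⟩, Subtype.ext (Subtype.ext ?_)⟩
      · have h3 := ((MulAut.conj g⁻¹).orderOf_eq t.1.1).trans t.1.2
        rwa [MulAut.conj_apply, inv_inv] at h3
      · show g * (g⁻¹ * t.1.1 * g) * g⁻¹ = t.1.1
        group

/-- Sylow subgroups of an involution centraliser, all involutions being conjugate. -/
theorem pairs_invol {p : ℕ} [hp : Fact p.Prime] (hp2 : p ≠ 2) (hpp : ¬ p * p ∣ Nat.card G)
    (hP : ∀ P : Sylow p G, Nat.card (P : Subgroup G) = p)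
    (hone : ∀ u v : G, orderOf u = 2 → orderOf v = 2 → IsConj u v) (P : Sylow p G) {t : G} (ht : orderOf t = 2)
    (h2 : 2 ∣ Nat.card (cent (P : Subgroup G))) :
    p ∣ Nat.card (Subgroup.centralizer ({t} : Set G)) ∧
    ∃ i, i % 2 = 1 ∧ i < Nat.card (cent (P : Subgroup G)) / p ∧
      (∀ P' : Sylow p G, Nat.card {u : {u : G // orderOf u = 2} // u.1 ∈ cent (P' : Subgroup G)} = i) ∧
      Nat.card (Sylow p (Subgroup.centralizer ({t} : Set G))) % p = 1 ∧
      Nat.card (Sylow p (Subgroup.centralizer ({t} : Set G))) ∣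
        Nat.card (Subgroup.centralizer ({t} : Set G)) / p ∧
      Nat.card (Sylow p G) * i = Nat.card G / Nat.card (Subgroup.centralizer ({t} : Set G)) *
        Nat.card (Sylow p (Subgroup.centralizer ({t} : Set G))) := by
  classical
  set C := Subgroup.centralizer ({t} : Set G) with hC
  have hiff : ∀ (u : G) (P' : Sylow p G), u ∈ cent (P' : Subgroup G) ↔ (P' : Subgroup G) ≤ Subgroup.centralizer ({u} : Set G) := by
    intro u P'
    constructor
    · intro h x hx
      exact Subgroup.mem_centralizer_singleton_iff.2 (Subgroup.mem_centralizer_iff.1 h x hx)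
    · intro h
      exact Subgroup.mem_centralizer_iff.2 fun x hx => Subgroup.mem_centralizer_singleton_iff.1 (h hx)
  have hmove : ∀ (h u : G) (S : Sylow p G), (S : Subgroup G) ≤ Subgroup.centralizer ({u} : Set G) →
      ((h • S : Sylow p G) : Subgroup G) ≤ Subgroup.centralizer ({h * u * h⁻¹} : Set G) := by
    intro h u S hS x hx
    rw [Sylow.coe_subgroup_smul, Subgroup.mem_pointwise_smul_iff_inv_smul_mem] at hx
    have h' := congrArg (MulAut.conj h • ·) (Subgroup.mem_centralizer_singleton_iff.1 (hS hx))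
    refine Subgroup.mem_centralizer_singleton_iff.2 ?_
    simp only [smul_mul', smul_inv_smul] at h'
    exact h'
  have hpC : p ∣ Nat.card C := by
    haveI : Fact (Nat.Prime 2) := ⟨Nat.prime_two⟩
    obtain ⟨u, hu⟩ := exists_prime_orderOf_dvd_card' 2 h2
    obtain ⟨g, hg⟩ := isConj_iff.1 (hone u t (by rw [Subgroup.orderOf_coe, hu]) ht)
    refine (dvd_of_eq (hP (g • P)).symm).trans (Subgroup.card_dvd_of_le ?_)
    rw [hC, ← hg]
    exact hmove g u P ((hiff _ _).1 u.2)
  refine ⟨hpC, ?_⟩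
  obtain ⟨i, hi1, hi2, hi3⟩ := cent_invol hp2 hP P h2
  obtain ⟨h1, h2'⟩ := sylow_count hpp C hpC 1 fun R => one_dvd _
  rw [Nat.lcm_one_left] at h2'
  refine ⟨i, hi1, hi2, hi3, h1, h2', ?_⟩
  have hcl : Nat.card {u : G // orderOf u = 2} = Nat.card G / Nat.card C := by
    rw [← C.card_mul_index, Nat.mul_div_cancel_left _ Nat.card_pos, Subgroup.index,
      Nat.card_congr (Equiv.subtypeEquivRight (q := fun u => u ∈ MulAction.orbit (ConjAct G) t) fun u =>
        ⟨fun hu => ConjAct.mem_orbit_conjAct.2 (hone u t hu ht), fun hu => by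
          obtain ⟨c, rfl⟩ := isConj_iff.1 (ConjAct.mem_orbit_conjAct.1 hu).symm
          exact ((MulAut.conj c).orderOf_eq t).trans ht⟩)]
    exact (Nat.card_congr (MulAction.orbitEquivQuotientStabilizer (ConjAct G) t)).trans (by
      rw [ConjAct.stabilizer_eq_centralizer]; rfl)
  rw [← hcl]
  refine card_pairs (fun (P' : Sylow p G) (u : {u : G // orderOf u = 2}) => u.1 ∈ cent (P' : Subgroup G)) hi3 fun u => ?_
  rw [← card_sylow_le hP hpp C hpC]
  obtain ⟨g, hg⟩ := isConj_iff.1 (hone u.1 t u.2 ht)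
  refine Nat.card_eq_of_bijective (fun S => ⟨g • S.1, ?_⟩) ⟨fun Q R h => ?_, fun Q => ?_⟩
  · rw [hC, ← hg]
    exact hmove g _ _ ((hiff _ _).1 S.2)
  · exact Subtype.ext (MulAction.injective g (congrArg Subtype.val h))
  · refine ⟨⟨g⁻¹ • Q.1, (hiff _ _).2 ?_⟩, Subtype.ext (smul_inv_smul g Q.1)⟩
    have := hmove g⁻¹ t Q.1 Q.2
    rwa [show g⁻¹ * t * g⁻¹⁻¹ = u.1 by rw [← hg]; group] at this

end Cfsg.Agent.JankoOne.Order
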