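import Cfsg.Agent.Lib.FGStruct.J1Order.Check

/-!
Two further rules for the local data of a simple group of order 175560, and the two surviving selections.
-/

set_option autoImplicit false

namespace Cfsg.Agent.JankoOne.Order

open Cfsg.Agent.J1Order

/-- The candidate Sylow numbers. -/
def ms (q t : ℕ) : List ℕ := divs.filter fun k => decide (k % q = 1) && decide (t % k = 0)

/-- The rule for commuting pairs of Sylow subgroups. -/
def ruleB (l : List Datum) : Bool :=
  l.all fun a => l.all fun b => decide (a.1 = b.1) || !decide (a.2.2 % b.1 = 0) ||
    (ms b.1 (a.2.2 / a.1 / b.1)).any fun m => (ms a.1 (b.2.2 / a.1 / b.1)).any fun m' =>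
      decide (a.2.1 * m = b.2.1 * m')

/-- The order of an involution centraliser. -/
def ct (l : List Datum) : ℕ := 8 * ((l.filter fun a => decide (a.2.2 % 2 = 0)).map (·.1)).prod

/-- The admissible Sylow numbers of an involution centraliser. -/
def invOpts (l : List Datum) (a : Datum) : List ℕ :=
  (ms a.1 (ct l / a.1)).filter fun m' => decide (175560 / ct l * m' % a.2.1 = 0) &&
    decide (175560 / ct l * m' / a.2.1 % 2 = 1) && decide (175560 / ct l * m' / a.2.1 < a.2.2 / a.1)

/-- The rule for commuting pairs of Sylow subgroups and involutions. -/
def ruleI (l : List Datum) : Bool :=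
  l.all fun a => !decide (a.2.2 % 2 = 0) || (invOpts l a).any fun _ => true

/-- The survivor with an involution centraliser of order 1320. -/
def big : List Datum := [(19, 1540, 19), (11, 1596, 22), (7, 4180, 7), (5, 2926, 30), (3, 2926, 30)]

/-- The survivor with an involution centraliser of order 120. -/
def small : List Datum := [(19, 1540, 19), (11, 1596, 11), (7, 4180, 7), (5, 2926, 30), (3, 2926, 30)]

set_option maxRecDepth 100000 in
theorem survivors : ((build 175560 [19, 11, 7, 5, 3]).filter fun l =>
    ruleB l && ruleI l && survives 175560 l) = [big, small] := by decide +kernel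

theorem opts_big : invOpts big (5, 2926, 30) = [66] ∧ invOpts big (3, 2926, 30) = [22] ∧ ct big = 1320 := by
  decide +kernel

theorem opts_small : invOpts small (5, 2926, 30) = [6] ∧ invOpts small (3, 2926, 30) = [10] ∧
    ct small = 120 := by decide +kernel

set_option maxRecDepth 100000 in
theorem divs_split : (divs.all fun k => !decide (k % 8 = 0) || decide (k = 8 * ([19, 11, 7, 5, 3].filter fun p => decide (k % p = 0)).prod)) = true := by
  decide +kernel

end Cfsg.Agent.JankoOne.Order
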